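import Cfsg.Agent.Lib.SmallSimple1.Degrees
import Cfsg.Agent.Lib.BrauerTuan.SmallBlock

/-!
A nonsolvable group has three primes dividing character degrees: in a nonabelian simple group take `g ≠ 1`
whose class size is prime to `p`; a nontrivial character of degree prime to `q` vanishes at `g`, so column
orthogonality gives `1 = q · (algebraic integer)`.
-/

set_option autoImplicit false

namespace Cfsg.Agent.Lib.DegPrimes22

open Cfsg Cfsg.Agent.Lib
open scoped ComplexConjugate

universe u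

theorem exists_class_coprime {G : Type u} [Group G] [Finite G] [Nontrivial G] (p : ℕ) [hp : Fact p.Prime] :
    ∃ g : G, g ≠ 1 ∧ ¬ p ∣ (Subgroup.centralizer ({g} : Set G)).index := by
  by_cases hd : p ∣ Nat.card G
  · obtain ⟨P⟩ : Nonempty (Sylow p G) := inferInstance
    haveI : Nontrivial (P : Subgroup G) := by
      rw [← Finite.one_lt_card_iff_nontrivial, P.card_eq_multiplicity]
      exact Nat.one_lt_pow (Finsupp.mem_support_iff.1 (Nat.support_factorization _ ▸
        Nat.mem_primeFactors.2 ⟨hp.out, hd, Nat.card_pos.ne'⟩)) hp.out.one_lt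
    haveI := P.2.center_nontrivial
    obtain ⟨z, hz⟩ := exists_ne (1 : Subgroup.center (P : Subgroup G))
    refine ⟨(z : (P : Subgroup G)), fun h => hz (Subtype.ext (Subtype.ext h)), fun hpi => ?_⟩
    have hle : (P : Subgroup G) ≤ Subgroup.centralizer ({((z : (P : Subgroup G)) : G)} : Set G) := by
      intro x hx
      rw [Subgroup.mem_centralizer_singleton_iff]
      exact congrArg Subtype.val (Subgroup.mem_center_iff.1 z.2 ⟨x, hx⟩)
    exact P.not_dvd_index (hpi.trans (Subgroup.index_dvd_of_le hle))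
  · obtain ⟨g, hg⟩ := exists_ne (1 : G)
    exact ⟨g, hg, fun h => hd (h.trans (Subgroup.index_dvd_card _))⟩

/-- Two primes do not cover the degrees of a nonabelian simple group. -/
theorem simple_not_two {G : Type u} [Group G] [Finite G] [IsSimpleGroup G] (hna : ∃ a b : G, a * b ≠ b * a)
    (p q : ℕ) (hp : p.Prime) (hq : q.Prime) : ∃ r ∈ degreePrimes G, r ≠ p ∧ r ≠ q := by
  classical
  by_contra! hall
  cases nonempty_fintype G
  haveI : Fact p.Prime := ⟨hp⟩
  obtain ⟨g, hg, hgp⟩ := exists_class_coprime (G := G) p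
  have horth := Chars.column_orthogonality_of_not_isConj (g := g) (h := 1)
    (fun h => hg (isConj_one_left.1 h))
  have hterm : ∀ χ : IrrCharacter G, χ ≠ Chars.trivialIrr G →
      ∃ θ : ℂ, IsIntegral ℤ θ ∧ (χ : G → ℂ) g * conj ((χ : G → ℂ) 1) = (q : ℂ) * θ := by
    intro χ hχ
    have h1 := DefectOne.apply_one_eq_degOf χ
    by_cases hqd : q ∣ DefectOne.degOf χ
    · obtain ⟨e, he⟩ := hqd
      refine ⟨(χ : G → ℂ) g * (e : ℂ), (Chars.irr_isIntegral χ g).mul (isIntegral_natCast e), ?_⟩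
      rw [h1, he, map_natCast]
      push_cast
      ring
    · refine ⟨0, isIntegral_zero, ?_⟩
      have hcop : Nat.Coprime (Subgroup.centralizer ({g} : Set G)).index (DefectOne.degOf χ) := by
        refine Nat.coprime_of_dvd fun r hr hri hrd => ?_
        have hmem : r ∈ degreePrimes G :=
          ⟨hr, DefectOne.degOf χ, ⟨χ, Codegree.charDegree_eq h1⟩, hrd⟩
        by_cases hrp : r = p
        · exact hgp (hrp ▸ hri)
        · exact hqd (hall r hmem hrp ▸ hrd)
      rw [BrauerTuan.apply_eq_zero_of_coprime hna hχ hg hcop, zero_mul, mul_zero]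
  choose θ hθ hθe using hterm
  rw [← Finset.add_sum_erase _ _ (Finset.mem_univ (Chars.trivialIrr G))] at horth
  rw [← Finset.sum_attach, Finset.sum_congr rfl fun χ _ => hθe χ.1 (Finset.ne_of_mem_erase χ.2),
    ← Finset.mul_sum] at horth
  set S := ∑ χ ∈ (Finset.univ.erase (Chars.trivialIrr G)).attach, θ χ.1 (Finset.ne_of_mem_erase χ.2)
  have hS : IsIntegral ℤ S := IsIntegral.sum _ fun χ _ => hθ _ _
  have h0 : (1 : ℂ) + (q : ℂ) * S = 0 := by
    rw [← horth]
    simp [Chars.trivialIrr]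
  have h2 : ((1 : ℤ) : ℂ) / (q : ℂ) = -S := by
    rw [div_eq_iff (Nat.cast_ne_zero.2 hq.ne_zero)]
    push_cast
    linear_combination h0
  have := BrauerReynolds.natCast_dvd_of_isIntegral_div hq.ne_zero (h2 ▸ hS.neg)
  exact hq.one_lt.ne' (by exact_mod_cast Int.eq_one_of_dvd_one (by positivity) this)

theorem not_two : ∀ (n : ℕ) (G : Type u) [Group G] [Finite G], Nat.card G = n → ¬ Group.IsSolvable G →
    ∀ p q : ℕ, p.Prime → q.Prime → ∃ r ∈ degreePrimes G, r ≠ p ∧ r ≠ q := by
  intro n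
  induction n using Nat.strong_induction_on with
  | _ n ih =>
    intro G _ _ hn hG p q hp hq
    by_cases hs : IsSimpleGroup G
    · refine simple_not_two ?_ p q hp hq
      by_contra! hc
      exact hG (Group.isSolvable_of_comm hc)
    haveI : Nontrivial G := by
      by_contra hnt
      rw [not_nontrivial_iff_subsingleton] at hnt
      exact hG inferInstance
    obtain ⟨N, hN, hbot, htop⟩ : ∃ N : Subgroup G, N.Normal ∧ N ≠ ⊥ ∧ N ≠ ⊤ := by
      by_contra! h
      exact hs ⟨fun H hH => or_iff_not_imp_left.2 (h H hH)⟩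
    by_cases hNs : Group.IsSolvable N
    · have hQ : ¬ Group.IsSolvable (G ⧸ N) := fun hQ =>
        hG (solvable_of_ker_le_range N.subtype (QuotientGroup.mk' N)
          (by rw [QuotientGroup.ker_mk', Subgroup.range_subtype]))
      have hlt : Nat.card (G ⧸ N) < n := by
        rw [← hn, ← Subgroup.index_eq_card, ← N.card_mul_index]
        exact lt_mul_of_one_lt_left (Nat.pos_of_ne_zero Subgroup.index_ne_zero_of_finite)
          (Subgroup.one_lt_card_iff_ne_bot N |>.2 hbot)
      obtain ⟨r, ⟨hr, d, hd, hrd⟩, hne⟩ := ih _ hlt (G ⧸ N) rfl hQ p q hp hq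
      exact ⟨r, ⟨hr, d, (by obtain ⟨ψ, rfl⟩ := hd; exact ⟨Chars.inflate N ψ, rfl⟩), hrd⟩, hne⟩
    · have hlt : Nat.card N < n := hn ▸ N.card_le_card_group.lt_of_ne fun e => htop (N.eq_top_of_card_eq e)
      obtain ⟨r, ⟨hr, d, hd, hrd⟩, hne⟩ := ih _ hlt N rfl hNs p q hp hq
      obtain ⟨e, he, hde⟩ := SmallSimple1.exists_degree_above N hd
      exact ⟨r, ⟨hr, e, he, hrd.trans hde⟩, hne⟩

theorem three_degree_primes {G : Type u} [Group G] [Finite G] (hG : ¬ Group.IsSolvable G) :
    ∃ p q r : ℕ, p ≠ q ∧ q ≠ r ∧ p ≠ r ∧ p ∈ degreePrimes G ∧ q ∈ degreePrimes G ∧ r ∈ degreePrimes G := by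
  obtain ⟨a, ha, -, -⟩ := not_two _ G rfl hG 2 3 Nat.prime_two Nat.prime_three
  obtain ⟨b, hb, hba, -⟩ := not_two _ G rfl hG a a ha.1 ha.1
  obtain ⟨c, hc, hca, hcb⟩ := not_two _ G rfl hG a b ha.1 hb.1
  exact ⟨a, b, c, hba.symm, hcb.symm, hca.symm, ha, hb, hc⟩

end Cfsg.Agent.Lib.DegPrimes22
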